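import Groth.Agent.H12AlgSp.NormSp.BaseChange
import Groth.Agent.H12AlgSp.NormSp.Finite
import Groth.Agent.H12AlgSp.QSApps
import Groth.Agent.H12AlgSp.FinPres
import Groth.Agent.H12AlgSp.LimitSeparatedMor
import Mathlib

/-!
# Normalisations in a given source are their own normalisations; the affine form
-/

set_option autoImplicit false
set_option linter.style.haveILetI false
set_option maxHeartbeats 800000
universe u

open CategoryTheory CategoryTheory.Limits AlgebraicGeometry
open AlgSp Groth.Agent.H13AlgSp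

namespace Groth.Agent.H12AlgSp.AbsInt

variable {S : Scheme.{u}}

/-- A morphism from a space separated over the base is separated. -/
theorem isSeparatedMor_of_isSeparatedSp {X Y : Sp S} (f : X ⟶ Y) (h : IsSeparatedSp X) : IsSeparatedMor f := by
  let m : pullback f f ⟶ X ⨯ X := prod.lift (pullback.fst f f) (pullback.snd f f)
  have : Mono m := ⟨fun a b e => by
    apply pullback.hom_ext
    · have h := congrArg (fun t => t ≫ (prod.fst : X ⨯ X ⟶ X)) e
      simpa only [m, Category.assoc, prod.lift_fst] using h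
    · have h := congrArg (fun t => t ≫ (prod.snd : X ⨯ X ⟶ X)) e
      simpa only [m, Category.assoc, prod.lift_snd] using h⟩
  have hm : pullback.diagonal f ≫ m = Limits.diag X := by
    apply Limits.prod.hom_ext <;> simp [m]
  refine repWith_of_isPullback (fst := 𝟙 X) (g := m) ?_ h
  refine ⟨⟨by rw [Category.id_comp, hm]⟩, ⟨PullbackCone.IsLimit.mk _ (fun c => c.fst) (fun c => by simp)
    (fun c => ?_) (fun c r h₁ h₂ => by simpa using h₁)⟩⟩
  rw [← cancel_mono m, Category.assoc, hm]
  exact c.condition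

theorem isIntegralMor_comp {F G H : Sp S} {f : F ⟶ G} {g : G ⟶ H} (hf : IsIntegralMor f) (hg : IsIntegralMor g) :
    IsIntegralMor (f ≫ g) :=
  isIntegralMor_iff.2 (repWith_comp (isIntegralMor_iff.1 hf) (isIntegralMor_iff.1 hg))

theorem isIntegralMor_id (F : Sp S) : IsIntegralMor (𝟙 F) :=
  haveI : MorphismProperty.ContainsIdentities (@IsIntegralHom : MorphismProperty Scheme.{u}) :=
    ⟨fun _ => inferInstance⟩
  isIntegralMor_iff.2 (repWith_of_isIso _)

/-- The map to a normalisation has the target as its own normalisation. -/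
theorem isRelNormalization_self {F X Q : Sp S} {c : F ⟶ X} {ν : Q ⟶ X} {c' : F ⟶ Q} (hQ : IsAlgSpace Q)
    (h : IsRelNormalization c ν c') : IsRelNormalization c' (𝟙 Q) c' := by
  obtain ⟨hc, hν, hu⟩ := h
  refine ⟨Category.comp_id _, isIntegralMor_id Q, fun Z hZ π g hπ hg => ?_⟩
  obtain ⟨h, ⟨hh1, hh2⟩, hh3⟩ := hu hZ (π ≫ ν) g (isIntegralMor_comp hπ hν) (by rw [reassoc_of% hg, hc])
  have hid : h ≫ π = 𝟙 Q := by
    obtain ⟨k, -, hk⟩ := hu hQ ν c' hν hc
    rw [hk (h ≫ π) ⟨by rw [reassoc_of% hh1, hg], by rw [Category.assoc]; exact hh2⟩]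
    exact (hk (𝟙 Q) ⟨Category.comp_id _, Category.id_comp _⟩).symm
  exact ⟨h, ⟨hh1, hid⟩, fun k hk => hh3 k ⟨hk.1, by rw [reassoc_of% hk.2]⟩⟩

/-- If an affine scheme is its own normalisation in a scheme over it, then its ring is integrally closed
in the ring of functions of that scheme. -/
theorem ring_of_isRelNormalization {E V : Over S} [IsAffine V.left] (r : E ⟶ V)
    (h : IsRelNormalization ((yon S).map r) (𝟙 _) ((yon S).map r)) :
    Function.Injective r.left.appTop.hom ∧
      ∀ x : Γ(E.left, ⊤), r.left.appTop.hom.IsIntegralElem x → ∃ a, r.left.appTop.hom a = x := by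
  letI alg := r.left.appTop.hom.toAlgebra
  let C := integralClosure Γ(V.left, ⊤) Γ(E.left, ⊤)
  let al : Γ(V.left, ⊤) ⟶ CommRingCat.of C := CommRingCat.ofHom (algebraMap Γ(V.left, ⊤) C)
  let incl : CommRingCat.of C ⟶ Γ(E.left, ⊤) := CommRingCat.ofHom C.val.toRingHom
  have hincl : al ≫ incl = r.left.appTop := by ext a; rfl
  haveI : IsIntegralHom (Spec.map al) :=
    (IsIntegralHom.SpecMap_iff).2 (Algebra.IsIntegral.isIntegral (R := Γ(V.left, ⊤)) (A := C))
  let τl : Spec (CommRingCat.of C) ⟶ V.left := Spec.map al ≫ V.left.isoSpec.inv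
  haveI hτ : IsIntegralHom τl := inferInstanceAs (IsIntegralHom (Spec.map al ≫ V.left.isoSpec.inv))
  let T : Over S := Over.mk (τl ≫ V.hom)
  let τ : T ⟶ V := Over.homMk τl rfl
  have hgτ : (E.left.toSpecΓ ≫ Spec.map incl) ≫ τl = r.left := by
    rw [Category.assoc, ← Spec.map_comp_assoc, hincl, ← Scheme.toSpecΓ_naturality_assoc]
    rw [← Scheme.isoSpec_hom, Iso.hom_inv_id, Category.comp_id]
  let g : E ⟶ T := Over.homMk (E.left.toSpecΓ ≫ Spec.map incl)
    (by show _ ≫ τl ≫ V.hom = E.hom; exact (Category.assoc _ _ _).symm.trans ((congrArg (· ≫ V.hom) hgτ).trans (Over.w r)))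
  have hgr : g ≫ τ = r := Over.OverMorphism.ext hgτ
  obtain ⟨k, ⟨hk1, hk2⟩, -⟩ := h.2.2 (IsAlgSpace.yon_obj T) ((yon S).map τ) ((yon S).map g)
    (isIntegralMor_iff.2 ((repWith_yon_map_iff _ τ).2 hτ)) (by rw [← Functor.map_comp, hgr])
  obtain ⟨k', rfl⟩ := (yon S).map_surjective k
  rw [← Functor.map_comp] at hk1 hk2
  have hk1' : r.left ≫ k'.left = E.left.toSpecΓ ≫ Spec.map incl :=
    congrArg (fun t => t.left) ((yon S).map_injective hk1)
  have hk2' : k'.left ≫ τl = 𝟙 V.left :=
    congrArg (fun t => t.left) ((yon S).map_injective (hk2.trans ((yon S).map_id V).symm))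
  obtain ⟨ψ, hψ⟩ : ∃ ψ, Spec.map ψ = V.left.isoSpec.inv ≫ k'.left := ⟨Spec.preimage _, Spec.map_preimage _⟩
  have hψ2 : al ≫ ψ = 𝟙 _ := Spec.map_injective (by
    rw [Spec.map_comp, hψ, Spec.map_id, ← cancel_mono V.left.isoSpec.inv, Category.assoc, Category.assoc,
      Category.id_comp]
    exact (congrArg (V.left.isoSpec.inv ≫ ·) hk2').trans (Category.comp_id _))
  have hψ1 : ψ ≫ r.left.appTop = incl := by
    have e : E.left.toSpecΓ ≫ Spec.map (ψ ≫ r.left.appTop) = E.left.toSpecΓ ≫ Spec.map incl := by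
      rw [Spec.map_comp, ← Scheme.toSpecΓ_naturality_assoc, hψ, ← hk1', ← Scheme.isoSpec_hom,
        Iso.hom_inv_id_assoc]
    have e' := congrArg Scheme.Hom.appTop e
    simp only [Scheme.Hom.comp_appTop, Scheme.toSpecΓ_appTop] at e'
    rw [Scheme.ΓSpecIso_naturality, Scheme.ΓSpecIso_naturality] at e'
    exact (cancel_epi _).1 e'
  refine ⟨(injective_iff_map_eq_zero _).2 fun x hx => ?_, fun x hx => ⟨ψ.hom ⟨x, hx⟩, ?_⟩⟩
  · have h0 : al.hom x = 0 := Subtype.ext hx
    have := RingHom.congr_fun (congrArg CommRingCat.Hom.hom hψ2) x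
    simp only [CommRingCat.hom_comp, RingHom.comp_apply, h0, map_zero, CommRingCat.hom_id, RingHom.id_apply] at this
    exact this.symm
  · exact RingHom.congr_fun (congrArg CommRingCat.Hom.hom hψ1) ⟨x, hx⟩

end Groth.Agent.H12AlgSp.AbsInt
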