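import Groth.Agent.H8Props.DimZero
import Groth.Agent.H06Proper.KPoint
import Groth.Agent.H13Desc.EtaleFibre
import Mathlib

/-!
# Étale morphisms to zero-dimensional schemes with algebraically closed residue fields split
-/

set_option autoImplicit false
set_option linter.style.haveILetI false
set_option maxHeartbeats 800000
universe u

open CategoryTheory CategoryTheory.Limits AlgebraicGeometry TopologicalSpace

namespace Groth.Agent.H12AlgSp.AbsInt

theorem topologicalKrullDim_le_zero_of_t1 (E : Scheme.{u}) [T1Space E] : topologicalKrullDim E ≤ 0 := by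
  refine Order.krullDim_nonpos_iff_forall_isMin.mpr fun A B hBA => ?_
  obtain ⟨a, ha⟩ := QuasiSober.sober A.isIrreducible A.isClosed
  obtain ⟨b, hb⟩ := QuasiSober.sober B.isIrreducible B.isClosed
  rw [IsGenericPoint, closure_singleton] at ha hb
  intro x hx
  change x ∈ (A : Set E) at hx
  show x ∈ (B : Set E)
  have hA : (A : Set E) = {a} := ha.symm
  have h := hBA (hb ▸ Set.mem_singleton b)
  rw [hA] at hx
  change b ∈ (A : Set E) at h
  rw [hA, Set.mem_singleton_iff] at h
  rw [Set.mem_singleton_iff.1 hx]
  exact h ▸ (hb ▸ Set.mem_singleton b)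

section Product

variable {ι : Type u} (K : ι → Type u) [∀ i, Field (K i)]

theorem isMaximal_of_isPrime (p : Ideal (∀ i, K i)) [hp : p.IsPrime] : p.IsMaximal := by
  refine ⟨⟨hp.ne_top, fun J hJ => ?_⟩⟩
  obtain ⟨a, haJ, hap⟩ := SetLike.exists_of_lt hJ
  classical
  let b : ∀ i, K i := fun i => (a i)⁻¹
  have h0 : a * (1 - a * b) = 0 := funext fun i => by
    show a i * (1 - a i * (a i)⁻¹) = 0
    by_cases h : a i = 0
    · rw [h, zero_mul]
    · rw [mul_inv_cancel₀ h, sub_self, mul_zero]
  have h1 : (1 - a * b) ∈ p := (hp.mem_or_mem (show a * (1 - a * b) ∈ p by rw [h0]; exact p.zero_mem)).resolve_left hap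
  rw [Ideal.eq_top_iff_one]
  have := J.add_mem (hJ.le h1) (J.mul_mem_right b haJ)
  rwa [sub_add_cancel] at this

variable [∀ i, IsAlgClosed (K i)]

theorem isAlgClosed_quotient (p : Ideal (∀ i, K i)) [p.IsMaximal] :
    letI := Ideal.Quotient.field p
    IsAlgClosed ((∀ i, K i) ⧸ p) := by
  letI := Ideal.Quotient.field p
  refine IsAlgClosed.of_exists_root _ fun f hmo hirr => ?_
  obtain ⟨g, hg, hdeg, hgmo⟩ := Polynomial.lifts_and_degree_eq_and_monic
    (Polynomial.map_surjective _ Ideal.Quotient.mk_surjective f) hmo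
  have hroot : ∀ i, ∃ x : K i, (g.map (Pi.evalRingHom K i)).IsRoot x := fun i => by
    refine IsAlgClosed.exists_root _ ?_
    rw [hgmo.degree_map, hdeg]
    exact hirr.degree_pos.ne'
  choose x hx using hroot
  refine ⟨Ideal.Quotient.mk p x, ?_⟩
  have h0 : g.eval x = 0 := funext fun i => by
    have h := Polynomial.eval₂_at_apply (p := g) (Pi.evalRingHom K i) x
    rw [Polynomial.eval₂_eq_eval_map] at h
    exact h.symm.trans (hx i)
  rw [← hg, Polynomial.eval_map, Polynomial.eval₂_at_apply, h0, map_zero]

variable {R : CommRingCat.{u}} (e : R ≅ CommRingCat.of (∀ i, K i))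

theorem isClosed_point (x : Spec (CommRingCat.of (∀ i, K i))) : IsClosed ({x} : Set _) :=
  (PrimeSpectrum.isClosed_singleton_iff_isMaximal x).2 (haveI := x.2; isMaximal_of_isPrime K x.asIdeal)

theorem isAlgClosed_residueField (x : Spec (CommRingCat.of (∀ i, K i))) :
    IsAlgClosed ((Spec (CommRingCat.of (∀ i, K i))).residueField x) := by
  haveI := x.2
  haveI := isMaximal_of_isPrime K x.asIdeal
  letI := Ideal.Quotient.field x.asIdeal
  haveI := isAlgClosed_quotient K x.asIdeal
  let e₁ : ((∀ i, K i) ⧸ x.asIdeal) ≃+* x.asIdeal.ResidueField :=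
    RingEquiv.ofBijective _ x.asIdeal.bijective_algebraMap_quotient_residueField
  exact IsAlgClosed.of_ringEquiv _ _ (e₁.trans (Scheme.Spec.residueFieldIso _ x).symm.commRingCatIsoToRingEquiv)

end Product

/-- A point of a scheme étale over another with separably closed residue field has the same residue field. -/
theorem isIso_residueFieldMap_of_etale {E Z : Scheme.{u}} (f : E ⟶ Z) [Etale f] (e : E)
    [IsSepClosed (Z.residueField (f e))] : IsIso (f.residueFieldMap e) := by
  letI := (f.residueFieldMap e).hom.toAlgebra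
  haveI := Groth.Agent.H12AlgSp.finite_residueFieldMap_etale f e
  haveI : Algebra.IsSeparable (Z.residueField (f e)) (E.residueField e) := inferInstance
  rw [ConcreteCategory.isIso_iff_bijective]
  exact ⟨(f.residueFieldMap e).hom.injective, IsSepClosed.algebraMap_surjective (Z.residueField (f e)) (E.residueField e)⟩

/-- An étale separated quasi-compact morphism to a zero-dimensional quasi-compact separated scheme with separably
closed residue fields is a monomorphism on a clopen neighbourhood of each point. -/
theorem exists_clopen_mono {E Z : Scheme.{u}} (f : E ⟶ Z) [Etale f] [IsSeparated f] [QuasiCompact f] [CompactSpace E]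
    [QuasiSeparatedSpace E] [T1Space Z] [∀ z, IsSepClosed (Z.residueField z)] (e : E) :
    ∃ N : E.Opens, IsClopen (N : Set E) ∧ e ∈ N ∧ Mono (N.ι ≫ f) := by
  haveI := Groth.Agent.H12AlgSp.lqf_of_etale f
  haveI : T1Space E := ⟨fun x => by
    have hd := f.isDiscrete_preimage_singleton (f x)
    have hc : IsClosed (f ⁻¹' {f x}) := isClosed_singleton.preimage f.continuous
    haveI := hd.to_subtype
    have h1 : IsClosed ({⟨x, rfl⟩} : Set (f ⁻¹' {f x})) := isClosed_discrete _
    have h2 := hc.isClosedEmbedding_subtypeVal.isClosedMap _ h1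
    rwa [Set.image_singleton] at h2⟩
  haveI : T2Space E := H8Props.t2Space_of_dim_le_zero E (topologicalKrullDim_le_zero_of_t1 E)
  let K : Set ↥(pullback f f) := (Set.range (pullback.diagonal f))ᶜ
  have hKc : IsClosed K := (pullback.diagonal f).isOpenEmbedding.isOpen_range.isClosed_compl
  haveI : CompactSpace ↥(pullback f f) := QuasiCompact.compactSpace_of_compactSpace (pullback.fst f f)
  let φ : ↥(pullback f f) → E × E := fun k => (pullback.fst f f k, pullback.snd f f k)
  have hφ : Continuous φ := (pullback.fst f f).continuous.prodMk (pullback.snd f f).continuous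
  have himage : IsClosed (φ '' K) := (hKc.isCompact.image hφ).isClosed
  have hne : (e, e) ∉ φ '' K := by
    rintro ⟨k, hk, hke⟩
    refine hk ?_
    let P := pullback f f
    have ha : (P.fromSpecResidueField k ≫ pullback.fst f f) (IsLocalRing.closedPoint _) = e := by
      rw [Scheme.Hom.comp_apply, Scheme.fromSpecResidueField_apply]; exact (Prod.ext_iff.1 hke).1
    have hb : (P.fromSpecResidueField k ≫ pullback.snd f f) (IsLocalRing.closedPoint _) = e := by
      rw [Scheme.Hom.comp_apply, Scheme.fromSpecResidueField_apply]; exact (Prod.ext_iff.1 hke).2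
    haveI := isIso_residueFieldMap_of_etale f ((P.fromSpecResidueField k ≫ pullback.fst f f) (IsLocalRing.closedPoint _))
    have heq : P.fromSpecResidueField k ≫ pullback.fst f f = P.fromSpecResidueField k ≫ pullback.snd f f :=
      @H06Proper.point_ext E Z (P.residueField k) _ f _ _ (ha.trans hb.symm) this
        ((Category.assoc _ _ _).trans ((congrArg (P.fromSpecResidueField k ≫ ·) pullback.condition).trans (Category.assoc _ _ _).symm))
    have hlift : (P.fromSpecResidueField k ≫ pullback.fst f f) ≫ pullback.diagonal f = P.fromSpecResidueField k := by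
      apply pullback.hom_ext
      · rw [Category.assoc, pullback.diagonal_fst, Category.comp_id]
      · rw [Category.assoc, pullback.diagonal_snd, Category.comp_id, heq]
    refine ⟨(P.fromSpecResidueField k ≫ pullback.fst f f) (IsLocalRing.closedPoint _), ?_⟩
    rw [← Scheme.Hom.comp_apply, hlift, Scheme.fromSpecResidueField_apply]
  obtain ⟨A, B, hA, hB, heA, heB, hAB⟩ := isOpen_prod_iff.1 himage.isOpen_compl e e hne
  haveI : TotallySeparatedSpace E := inferInstance
  obtain ⟨W, hW, heW, hWsub⟩ := compact_exists_isClopen_in_isOpen (hA.inter hB) ⟨heA, heB⟩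
  refine ⟨⟨W, hW.2⟩, hW, heW, ⟨fun {T} a b hab => ?_⟩⟩
  rw [← cancel_mono (Scheme.Opens.ι _)]
  let p : T ⟶ pullback f f := pullback.lift (a ≫ Scheme.Opens.ι _) (b ≫ Scheme.Opens.ι _)
    (by simpa only [Category.assoc] using hab)
  have hp : Set.range p ⊆ Set.range (pullback.diagonal f) := by
    rintro _ ⟨t, rfl⟩
    by_contra hK
    have h1 : (φ (p t)).1 ∈ W := by
      show pullback.fst f f (p t) ∈ W
      rw [← Scheme.Hom.comp_apply, pullback.lift_fst, Scheme.Hom.comp_apply]
      exact (a t).2
    have h2 : (φ (p t)).2 ∈ W := by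
      show pullback.snd f f (p t) ∈ W
      rw [← Scheme.Hom.comp_apply, pullback.lift_snd, Scheme.Hom.comp_apply]
      exact (b t).2
    exact hAB (show ((φ (p t)).1, (φ (p t)).2) ∈ A ×ˢ B from ⟨(hWsub h1).1, (hWsub h2).2⟩) ⟨p t, hK, rfl⟩
  have hl := IsOpenImmersion.lift_fac (pullback.diagonal f) p hp
  have h1 : IsOpenImmersion.lift (pullback.diagonal f) p hp = a ≫ Scheme.Opens.ι _ := by
    have h := congrArg (· ≫ pullback.fst f f) hl
    simp only [Category.assoc, pullback.diagonal_fst, Category.comp_id, p, pullback.lift_fst] at h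
    exact h
  have h2 : IsOpenImmersion.lift (pullback.diagonal f) p hp = b ≫ Scheme.Opens.ι _ := by
    have h := congrArg (· ≫ pullback.snd f f) hl
    simp only [Category.assoc, pullback.diagonal_snd, Category.comp_id, p, pullback.lift_snd] at h
    exact h
  exact h1.symm.trans h2

end Groth.Agent.H12AlgSp.AbsInt
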