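import Groth.Agent.H12AlgSp.AbsInt.Cover
import Groth.Agent.H12AlgSp.GlueSheaf

/-!
# Quasi-compact quasi-separated algebraic spaces have integral covers by schemes
-/

set_option autoImplicit false
set_option linter.style.haveILetI false
set_option maxHeartbeats 800000
universe u

open CategoryTheory CategoryTheory.Limits AlgebraicGeometry Topology TopologicalSpace
open AlgSp Groth.Agent.H13AlgSp

namespace Groth.Agent.H12AlgSp.AbsInt

variable {S : Scheme.{u}} [QuasiSeparatedSpace S]

/-- An affine scheme mapping to an affine scheme, with zero dimensional strictly closed local rings, whose image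
is dense. -/
theorem exists_strictly_closed_dense {U : Over S} [IsAffine U.left] :
    ∃ (Z : Over S) (φ : Z ⟶ U), IsAffine Z.left ∧ T1Space Z.left ∧
      (∀ z : Z.left, IsSepClosed (Z.left.residueField z)) ∧ ∀ x : U.left, ∃ z : Z.left, φ.left z ⤳ x := by
  let A := Γ(U.left, ⊤)
  let J := {p : PrimeSpectrum A // p.asIdeal ∈ minimalPrimes A}
  let K : J → Type u := fun i => AlgebraicClosure i.1.asIdeal.ResidueField
  let ρ : A →+* ∀ i, K i := Pi.ringHom fun i =>
    (algebraMap i.1.asIdeal.ResidueField (K i)).comp (algebraMap A i.1.asIdeal.ResidueField)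
  let φl : Spec (CommRingCat.of (∀ i, K i)) ⟶ U.left := Spec.map (CommRingCat.ofHom ρ) ≫ U.left.isoSpec.inv
  refine ⟨Over.mk (φl ≫ U.hom), Over.homMk φl rfl, inferInstanceAs (IsAffine (Spec _)),
    ⟨fun z => isClosed_point K z⟩, fun z => ?_, fun x => ?_⟩
  · haveI := isAlgClosed_residueField K z
    exact inferInstanceAs (IsSepClosed ((Spec (CommRingCat.of (∀ i, K i))).residueField z))
  · let y : PrimeSpectrum A := U.left.isoSpec.hom x
    haveI := y.2
    obtain ⟨p, hp, hpy⟩ := Ideal.exists_minimalPrimes_le (bot_le : ⊥ ≤ y.asIdeal)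
    haveI := Ideal.minimalPrimes_isPrime hp
    let i : J := ⟨⟨p, inferInstance⟩, hp⟩
    let z : Spec (CommRingCat.of (∀ i, K i)) :=
      ⟨RingHom.ker (Pi.evalRingHom K i), RingHom.ker_isPrime _⟩
    refine ⟨z, ?_⟩
    have hz : (Spec.map (CommRingCat.ofHom ρ)) z = (i.1 : PrimeSpectrum A) := by
      refine PrimeSpectrum.ext ?_
      show Ideal.comap ρ (RingHom.ker (Pi.evalRingHom K i)) = p
      rw [RingHom.comap_ker]
      exact (RingHom.ker_comp_of_injective _ (algebraMap i.1.asIdeal.ResidueField (K i)).injective).trans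
        (Ideal.ker_algebraMap_residueField p)
    have hspec : (Spec.map (CommRingCat.ofHom ρ)) z ⤳ U.left.isoSpec.hom x := by
      rw [hz]
      exact (PrimeSpectrum.le_iff_specializes i.1 y).1 hpy
    have := hspec.map U.left.isoSpec.inv.continuous
    rw [← Scheme.Hom.comp_apply, ← Scheme.Hom.comp_apply, Iso.hom_inv_id] at this
    exact this

theorem exists_scheme_integral_surjective {X : Sp S} (hX : IsAlgSpace X) (hqc : IsQuasiCompactSp X)
    (hqs : IsQuasiSeparatedSp X) {U : Over S} (b : (yon S).obj U ⟶ X) (hb : RepWith @Etale b)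
    (hbs : RepWith @Surjective b) :
    ∃ (Y : Over S) (g : (yon S).obj Y ⟶ X), RepWith @IsIntegralHom g ∧ RepWith @Surjective g ∧
      ∀ y : ↥Y.left, ∃ (W : Y.left.Opens) (c : Over.mk (W.ι ≫ Y.hom) ⟶ U), y ∈ W ∧
        (yon S).map c ≫ b = (yon S).map (Over.homMk W.ι rfl : Over.mk (W.ι ≫ Y.hom) ⟶ Y) ≫ g := by
  haveI := compactSpace_points_of_isQuasiCompactSp hqc
  obtain ⟨U₀, a, hU₀, hae, has⟩ := exists_affine_atlas hX
  haveI := hU₀
  obtain ⟨Z, φ, hZa, hZ1, hZsep, hdense⟩ := exists_strictly_closed_dense (U := U₀)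
  haveI := hZa; haveI := hZ1; haveI := hZsep
  let c := (yon S).map φ ≫ a
  have hcq : IsQuasiCompactMor c := isQuasiCompactMor_of_qc_qs (IsAlgSpace.yon_obj Z) hX c
    (isQuasiCompactSp_yon_iff.2 inferInstance) hqs
  have hcs : IsQuasiSeparatedMor c :=
    isQuasiSeparatedMor_of_isSeparatedMor (isSeparatedMor_of_isSeparatedSp c isSeparatedSp_yon_affine)
  obtain ⟨Q, ν, c', hQ, hn, -⟩ := NormSp.exists_isRelNormalization (IsAlgSpace.yon_obj Z) hX c hcq hcs
  have hn' := isRelNormalization_self hQ hn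
  have hνi : RepWith @IsIntegralHom ν := isIntegralMor_iff.1 hn.2.1
  have hQs : IsQuasiSeparatedSp Q := isQuasiSeparatedSp_of_mor (isQuasiSeparatedMor_of_isSeparatedMor
    (isSeparatedMor_of_repWith (repWith_le (fun _ _ f (_ : IsIntegralHom f) => inferInstanceAs (IsSeparated f)) hνi)))
    hqs
  obtain ⟨M, μ, hμ, hμs⟩ := hQ.atlas
  obtain ⟨P, snd, fst', sqP⟩ := hX.representable_from_yon b (μ ≫ ν)
  obtain ⟨fst, rfl⟩ := (yon S).map_surjective fst'
  have hsnd : Etale snd.left := (repWith_yon_map_iff _ snd).1 (repWith_of_isPullback sqP hb)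
  have hsnds : Surjective snd.left := (repWith_yon_map_iff _ snd).1 (repWith_of_isPullback sqP hbs)
  have hloc : ∀ m : M.left, ∃ (W : Over S) (j : (yon S).obj W ⟶ Q) (k : W ⟶ U), RepWith @IsOpenImmersion j ∧
      Points.ofPt μ m ∈ Set.range (Points.map j) ∧ (yon S).map k ≫ b = j ≫ ν := fun m => by
    obtain ⟨e, rfl⟩ := hsnds.surj m
    obtain ⟨V, hV, heV, -⟩ := exists_isAffineOpen_mem_and_subset (x := e) (U := (⊤ : P.left.Opens)) trivial
    haveI : IsAffine (openOver P V).left := hV
    let π := openIncl P V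
    let v := (yon S).map (π ≫ snd) ≫ μ
    haveI : Etale π.left := inferInstanceAs (Etale V.ι)
    have hv : RepWith @Etale v := repWith_comp
      ((repWith_yon_map_iff _ _).2 (inferInstanceAs (Etale (π.left ≫ snd.left)))) hμ
    obtain ⟨W, heW, hW⟩ := exists_opens_openImmersion hQ hQs hn' hv ⟨e, heV⟩
    refine ⟨openOver (openOver P V) W, _, openIncl (openOver P V) W ≫ π ≫ fst, hW, ?_, ?_⟩
    · rw [range_map_yon]
      refine ⟨⟨⟨e, heV⟩, heW⟩, ?_⟩
      rw [ofPt_map, ofPt_map]
      rfl
    · simp only [v, Functor.map_comp, Category.assoc]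
      rw [sqP.w]
  choose W j k hj hmem hk using hloc
  obtain ⟨Y, μ', hμ'⟩ := exists_iso_of_openCover W j hj fun T y t => by
    obtain ⟨m, hm⟩ := surjective_ofPt_of_repWith le_rfl hμs (Points.ofPt y t)
    exact ⟨m, hm ▸ hmem m⟩
  haveI := hμ'
  have hgi : RepWith @IsIntegralHom (μ' ≫ ν) :=
    haveI : MorphismProperty.ContainsIdentities (@IsIntegralHom : MorphismProperty Scheme.{u}) :=
      ⟨fun _ => inferInstance⟩
    repWith_comp (repWith_of_isIso μ') hνi
  refine ⟨Y, μ' ≫ ν, hgi, repWith_surjective_of_map hgi.rep ?_, fun y => ?_⟩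
  · have hclosed : IsClosed (Set.range (Points.map (μ' ≫ ν))) :=
      (isClosedMap_map_of_repWith (P := @IsIntegralHom) (fun _ _ f (_ : IsIntegralHom f) => inferInstance)
        hgi).isClosed_range
    intro p
    obtain ⟨x, rfl⟩ := surjective_ofPt_of_repWith le_rfl has p
    obtain ⟨z, hz⟩ := hdense x
    refine hclosed.closure_subset (closure_mono ?_ (hz.map (Points.continuous_ofPt a)).mem_closure)
    intro q hq
    rw [Set.mem_singleton_iff.1 hq, ← ofPt_map]
    show Points.ofPt c z ∈ _
    refine ⟨Points.ofPt (c' ≫ inv μ') z, ?_⟩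
    rw [Points.map_ofPt, Category.assoc, IsIso.inv_hom_id_assoc, hn.1]
  · obtain ⟨m, hm⟩ := surjective_ofPt_of_repWith le_rfl hμs (Points.ofPt μ' y)
    obtain ⟨o', ho'⟩ := (yon S).map_surjective (j m ≫ inv μ')
    have hjo : (yon S).map o' ≫ μ' = j m := by rw [ho', Category.assoc, IsIso.inv_hom_id, Category.comp_id]
    haveI : IsOpenImmersion o'.left := (repWith_yon_map_iff _ o').1 (by
      rw [ho']
      exact repWith_comp (hj m) (repWith_of_isIso _))
    have hyr : y ∈ o'.left.opensRange := by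
      have h := hmem m
      rw [hm, range_map_yon] at h
      obtain ⟨w, hw⟩ := h
      refine ⟨w, ?_⟩
      rw [← hjo, ofPt_map] at hw
      have hinj : Function.Injective (Points.ofPt μ') := by
        intro y₁ y₂ h12
        have h' := congrArg (Points.map (inv μ')) h12
        rw [Points.map_ofPt, Points.map_ofPt, IsIso.hom_inv_id] at h'
        exact (Points.schemeEquiv Y).injective h'
      exact hinj hw
    let e := o'.left.isoOpensRange
    let W₀ : Over S := Over.mk (o'.left.opensRange.ι ≫ Y.hom)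
    let e' : W₀ ⟶ W m := Over.homMk e.inv (by
      show e.inv ≫ (W m).hom = o'.left.opensRange.ι ≫ Y.hom
      rw [← Over.w o', ← Category.assoc, Scheme.Hom.isoOpensRange_inv_comp])
    refine ⟨o'.left.opensRange, e' ≫ k m, hyr, ?_⟩
    rw [Functor.map_comp, Category.assoc, hk, ← hjo, Category.assoc, ← Category.assoc, ← Functor.map_comp]
    congr 2
    exact Over.OverMorphism.ext (Scheme.Hom.isoOpensRange_inv_comp o'.left)

end Groth.Agent.H12AlgSp.AbsInt
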